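import Groth.Agent.Lib.Helper19.LciSp.Sp
import Groth.Agent.Lib.Helper16.AlgSp.FlatSp

/-!
# fpqc descent of `AlgSp.IsLCIMor` (helper19)
-/

set_option autoImplicit false
universe u
open CategoryTheory CategoryTheory.Limits AlgebraicGeometry MorphismProperty Opposite
open AlgSp Groth.Agent.Helper15 Groth.Agent.Helper16.AS

namespace Groth.Agent.Helper19.LciSp

variable {S : Scheme.{u}}

/-- descent of lci for base changes of a fixed `h₀` along a standard fpqc covering -/
theorem lci_snd_of_stdCover {U₀ V₀ Z : Over S} (h₀ : U₀ ⟶ V₀) (ω : Z ⟶ V₀) {m : ℕ}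
    {W : Fin m → Over S} {c : ∀ j, W j ⟶ Z} (hc : StdFpqc Z m W c) (hZ : IsAffine Z.left)
    (h : ∀ j, AlgSp.lci (pullback.snd h₀ (c j ≫ ω)).left) :
    AlgSp.lci (pullback.snd h₀ ω).left := by
  haveI := hc.affine
  haveI := hZ
  refine lci_of_stdCover (fun j => (W j).left) (fun j => (c j).left) hc.flat hc.surj
    (pullback.snd h₀ ω).left (V' := fun j => (pullback (pullback.snd h₀ ω) (c j)).left)
    (a := fun j => (pullback.fst (pullback.snd h₀ ω) (c j)).left)
    (b := fun j => (pullback.snd (pullback.snd h₀ ω) (c j)).left)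
    (fun j => (IsPullback.of_hasPullback (pullback.snd h₀ ω) (c j)).map (Over.forget S)) ?_
  intro j
  have big : IsPullback (pullback.fst (pullback.snd h₀ ω) (c j) ≫ pullback.fst h₀ ω)
      (pullback.snd (pullback.snd h₀ ω) (c j)) h₀ (c j ≫ ω) :=
    (IsPullback.of_hasPullback (pullback.snd h₀ ω) (c j)).paste_horiz
      (IsPullback.of_hasPullback h₀ ω)
  have e : pullback.snd (pullback.snd h₀ ω) (c j) =
      big.isoPullback.hom ≫ pullback.snd h₀ (c j ≫ ω) := by
    rw [IsPullback.isoPullback_hom_snd]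
  rw [e, Over.comp_left]
  haveI : IsIso big.isoPullback.hom.left :=
    (inferInstance : IsIso ((Over.forget S).map big.isoPullback.hom))
  exact lci_of_iso_comp _ (h j)

/-- a finite family of affine opens of an atlas whose images cover the image of a map from an
affine scheme -/
theorem exists_finite_affine_cover {P : Sp S} {W A : Over S} (hW : IsAffine W.left)
    (s : (yon S).obj W ⟶ P) (a : (yon S).obj A ⟶ P) (hae : RepWith @Etale a)
    (has : RepWith @Surjective a) :
    ∃ (n : ℕ) (O : Fin n → Over S) (ι : ∀ k, O k ⟶ A), (∀ k, IsAffine (O k).left) ∧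
      (∀ k, IsOpenImmersion (ι k).left) ∧
      ∀ w : W.left, ∃ k, Points.ofPt s w ∈ Set.range (Points.ofPt ((yon S).map (ι k) ≫ a)) := by
  haveI := hW
  have hch : ∀ w : W.left, ∃ (O : A.left.Opens), IsAffineOpen O ∧
      Points.ofPt s w ∈ Points.ofPt a '' (O : Set A.left) := by
    intro w
    obtain ⟨x, hx⟩ := surjective_ofPt a has (Points.ofPt s w)
    obtain ⟨_, ⟨O, hO, rfl⟩, hxO, -⟩ :=
      (A.left.isBasis_affineOpens).exists_subset_of_mem_open (Set.mem_univ x) isOpen_univ
    exact ⟨O, hO, x, hxO, hx⟩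
  choose O hO hOw using hch
  let N : W.left → Set W.left := fun w => Points.ofPt s ⁻¹' (Points.ofPt a '' (O w : Set A.left))
  have hN : ∀ w, IsOpen (N w) := fun w =>
    (isOpenMap_ofPt_of_etale a hae _ (O w).isOpen).preimage (Points.continuous_ofPt s)
  have hcov : (Set.univ : Set W.left) ⊆ ⋃ w, N w := fun w _ => Set.mem_iUnion.2 ⟨w, hOw w⟩
  obtain ⟨t, ht⟩ := isCompact_univ.elim_finite_subcover N hN hcov
  refine ⟨t.card, fun k => Over.mk ((O (t.equivFin.symm k).1).ι ≫ A.hom),
    fun k => Over.homMk (O (t.equivFin.symm k).1).ι rfl, fun k => hO _, fun k => ?_, fun w => ?_⟩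
  · change IsOpenImmersion (O (t.equivFin.symm k).1).ι
    infer_instance
  · obtain ⟨w', hw't, hw'⟩ : ∃ w' ∈ t, w ∈ N w' := by
      have := ht (Set.mem_univ w)
      simpa only [Set.mem_iUnion, exists_prop] using this
    refine ⟨t.equivFin ⟨w', hw't⟩, ?_⟩
    obtain ⟨x, hxO, hx⟩ := hw'
    have hk : (t.equivFin.symm (t.equivFin ⟨w', hw't⟩)).1 = w' := by
      rw [Equiv.symm_apply_apply]
    refine ⟨(⟨x, by rw [hk]; exact hxO⟩ : ↥(O (t.equivFin.symm (t.equivFin ⟨w', hw't⟩)).1)), ?_⟩
    rw [ofPt_comp_yon_map]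
    exact hx

end Groth.Agent.Helper19.LciSp
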