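import Groth.Agent.Lib.Helper19.LciSp.Desc

/-!
# `AlgSp.IsLCIMor` is fpqc local on the base (helper19)
-/

set_option autoImplicit false
universe u
open CategoryTheory CategoryTheory.Limits AlgebraicGeometry MorphismProperty Opposite
open AlgSp Groth.Agent.Helper15 Groth.Agent.Helper16.AS

namespace Groth.Agent.Helper19.LciSp

variable {S : Scheme.{u}}

/-- the key step: lci of the base change of a chart `h₀` of `f` along a flat `ω : W ⟶ V₀` from an
affine scheme such that `W ⟶ V₀ ⟶ Y` lifts to a flat `Yi ⟶ Y` over which `f` becomes lci. -/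
theorem lci_snd_of_lift {X Y Yi Xi : Sp S} (hY : IsAlgSpace Y)
    (hYi : IsAlgSpace Yi) (hXi : IsAlgSpace Xi) {f : X ⟶ Y} {g : Yi ⟶ Y} {p : Xi ⟶ Yi}
    {q : Xi ⟶ X} (sq : IsPullback q p f g) (hflat : LocP @Flat g) (hp : LocP AlgSp.lci p)
    {V₀ U₀ : Over S} (q₀ : (yon S).obj V₀ ⟶ Y) (hq₀e : RepWith @Etale q₀)
    (r : (yon S).obj U₀ ⟶ pullback f q₀) (hre : RepWith @Etale r) (h₀ : U₀ ⟶ V₀)
    (hh : r ≫ pullback.snd f q₀ = (yon S).map h₀)
    {W : Over S} (hW : IsAffine W.left) (ω : W ⟶ V₀) (hω : Flat ω.left)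
    (l : (yon S).obj W ⟶ Yi) (hl : l ≫ g = (yon S).map ω ≫ q₀) :
    AlgSp.lci (pullback.snd h₀ ω).left := by
  have hw : LocP @Flat ((yon S).map ω ≫ q₀) :=
    locP_flat_comp (IsAlgSpace.yon_obj W) (IsAlgSpace.yon_obj V₀) hY _ _
      (locP_of_repWith (P := @Flat) etale_le_flat _ ((repWith_yon_map_iff _ _).2 hω))
      (locP_of_repWith (P := @Flat) etale_le_flat _ (repWith_mono etale_le_flat hq₀e))
  obtain ⟨w, hwdef⟩ : ∃ w : (yon S).obj W ⟶ Y, w = (yon S).map ω ≫ q₀ := ⟨_, rfl⟩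
  rw [← hwdef] at hw hl
  have hP : IsAlgSpace (pullback g w) :=
    isAlgSpace_of_isPullback hY.diag hYi (IsAlgSpace.yon_obj W) (IsPullback.of_hasPullback g w)
  have hpr₁ : LocP @Flat (pullback.fst g w) :=
    locP_flat_of_isPullback (IsAlgSpace.yon_obj W) hY hYi (IsPullback.of_hasPullback g w).flip hw
  have hpr₂ : LocP @Flat (pullback.snd g w) :=
    locP_flat_of_isPullback hYi hY (IsAlgSpace.yon_obj W) (IsPullback.of_hasPullback g w) hflat
  have hsw : l ≫ g = 𝟙 _ ≫ w := by rw [hl, Category.id_comp]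
  obtain ⟨s, hs1, hs2⟩ : ∃ s : (yon S).obj W ⟶ pullback g w,
      s ≫ pullback.fst g w = l ∧ s ≫ pullback.snd g w = 𝟙 _ :=
    ⟨pullback.lift l (𝟙 _) hsw, pullback.lift_fst _ _ _, pullback.lift_snd _ _ _⟩
  obtain ⟨A, a, hae, has⟩ := hP.atlas
  obtain ⟨n, O, ι, hOaff, hOimm, hOcov⟩ := exists_finite_affine_cover hW s a hae has
  have hak : ∀ k, RepWith @Etale ((yon S).map (ι k) ≫ a) := fun k =>
    (RepWith @Etale).comp_mem _ _ ((repWith_yon_map_iff _ _).2 (by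
      haveI := hOimm k
      exact (inferInstance : Etale (ι k).left))) hae
  choose α hα using fun k => (yon S).map_surjective (((yon S).map (ι k) ≫ a) ≫ pullback.snd g w)
  have hαflat : ∀ k, Flat (α k).left := fun k =>
    hpr₂ ((yon S).map (ι k) ≫ a) (𝟙 _) (α k) (hak k) (repWith_id _ _)
      (by rw [Category.comp_id, hα])
  have hstd : StdFpqc W n O α := by
    refine ⟨hOaff, hαflat, fun x => ?_⟩
    obtain ⟨k, o, ho⟩ := hOcov x
    refine ⟨k, o, ?_⟩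
    have h1 := congrArg (Points.map (pullback.snd g w)) ho
    rw [Points.map_ofPt, Points.map_ofPt, hs2, ← hα, Groth.Agent.Helper15.ofPt_yon_map] at h1
    exact (Points.schemeEquiv W).injective h1
  refine lci_snd_of_stdCover h₀ ω hstd hW (fun k => ?_)
  have hbk : LocP @Flat (((yon S).map (ι k) ≫ a) ≫ pullback.fst g w) :=
    fun U V a' b' φ ha' hb' comm => hpr₁ (a' ≫ ((yon S).map (ι k) ≫ a)) b' φ
      ((RepWith @Etale).comp_mem _ _ ha' (hak k)) hb' (by rw [Category.assoc]; exact comm)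
  obtain ⟨bk, hbkdef⟩ : ∃ bk : (yon S).obj (O k) ⟶ Yi,
      bk = ((yon S).map (ι k) ≫ a) ≫ pullback.fst g w := ⟨_, rfl⟩
  rw [← hbkdef] at hbk
  have hLoc : LocP AlgSp.lci (pullback.snd p bk) :=
    locP_lci_of_isPullback hXi hYi (IsAlgSpace.yon_obj (O k)) (IsPullback.of_hasPullback p bk)
      hbk hp
  have hcomm : bk ≫ g = (yon S).map (α k ≫ ω) ≫ q₀ := by
    rw [hbkdef, Category.assoc, pullback.condition, ← Category.assoc, ← hα, hwdef,
      Functor.map_comp, Category.assoc]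
  have sq₁ : IsPullback (pullback.fst p bk ≫ q) (pullback.snd p bk) f
      ((yon S).map (α k ≫ ω) ≫ q₀) := by
    rw [← hcomm]
    exact (IsPullback.of_hasPullback p bk).paste_horiz sq
  obtain ⟨ρ, r₁, hleft, hr₁, -⟩ := exists_chart_base_change (IsPullback.of_hasPullback f q₀) r h₀
    hh (α k ≫ ω) (IsPullback.of_hasPullback h₀ (α k ≫ ω)) sq₁
  have hr₁e : RepWith @Etale r₁ := (RepWith @Etale).of_isPullback hleft.flip hre
  exact hLoc r₁ (𝟙 _) _ hr₁e (repWith_id _ _) (by rw [hr₁, Category.comp_id])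

/-- `LocP lci` descends along an fpqc covering. -/
theorem locP_lci_of_fpqcCover
    {ι : Type u} {X Y : Sp S} (hX : IsAlgSpace X) (hY : IsAlgSpace Y) {f : X ⟶ Y}
    {Yi Xi : ι → Sp S} (hYi : ∀ i, IsAlgSpace (Yi i)) (hXi : ∀ i, IsAlgSpace (Xi i))
    {g : ∀ i, Yi i ⟶ Y} {p : ∀ i, Xi i ⟶ Yi i} {q : ∀ i, Xi i ⟶ X}
    (sq : ∀ i, IsPullback (q i) (p i) f (g i)) (hflat : ∀ i, LocP @Flat (g i))
    (hcov : IsStdRefinable Yi g)
    (hp : ∀ i, LocP AlgSp.lci (p i)) : LocP AlgSp.lci f := by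
  obtain ⟨V₀, q₀, hq₀e, hq₀s⟩ := hY.atlas
  have hE : IsAlgSpace (pullback f q₀) :=
    isAlgSpace_of_isPullback hY.diag hX (IsAlgSpace.yon_obj V₀) (IsPullback.of_hasPullback f q₀)
  obtain ⟨U₀, r, hre, hrs⟩ := hE.atlas
  obtain ⟨h₀, hh⟩ := (yon S).map_surjective (r ≫ pullback.snd f q₀)
  refine locP_lci_of_charts f q₀ hq₀e _ _ (IsPullback.of_hasPullback f q₀) r hre hrs hq₀s h₀
    hh.symm ?_
  intro x
  obtain ⟨T₀, hT₀, hxT⟩ : ∃ T₀ : V₀.left.Opens, IsAffineOpen T₀ ∧ h₀.left x ∈ T₀ := by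
    obtain ⟨_, ⟨T₀, hT₀, rfl⟩, hxT, -⟩ :=
      (V₀.left.isBasis_affineOpens).exists_subset_of_mem_open (Set.mem_univ (h₀.left x))
        isOpen_univ
    exact ⟨T₀, hT₀, hxT⟩
  obtain ⟨T, γ, hTaff, hγimm, y', hy'⟩ : ∃ (T : Over S) (γ : T ⟶ V₀), IsAffine T.left ∧
      IsOpenImmersion γ.left ∧ ∃ y' : T.left, γ.left y' = h₀.left x :=
    ⟨Over.mk (T₀.ι ≫ V₀.hom), Over.homMk T₀.ι rfl, hT₀, (inferInstance : IsOpenImmersion T₀.ι),
      ⟨h₀.left x, hxT⟩, rfl⟩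
  haveI := hγimm
  have key : AlgSp.lci (pullback.snd h₀ γ).left := by
    obtain ⟨m, W, c, hc, hl⟩ := hcov T hTaff ((yon S).map γ ≫ q₀)
    refine lci_snd_of_stdCover h₀ γ hc hTaff (fun j => ?_)
    obtain ⟨i, l, hl⟩ := hl j
    haveI := hc.flat j
    refine lci_snd_of_lift hY (hYi i) (hXi i) (sq i) (hflat i) (hp i) q₀ hq₀e r hre h₀ hh.symm
      (hc.affine j) (c j ≫ γ) ?_ l ?_
    · rw [Over.comp_left]; infer_instance
    · rw [hl, Functor.map_comp, Category.assoc]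
  exact Groth.Agent.Helper2.KosBridge.isKoszulAt_of_baseChange_of_isOpenMap h₀.left γ.left
    γ.left.isOpenEmbedding.isOpenMap (pullback.snd h₀ γ).left (pullback.fst h₀ γ).left
    ((IsPullback.of_hasPullback h₀ γ).map (Over.forget S)) key x y' hy'

theorem isLocalOnBase_fpqc_isLCIMor :
    IsLocalOnBase (IsFpqcCover (S := S)) AlgSp.IsLCIMor := by
  intro ι Y Yi g hY hYi hcov X f hX Xi p q hXi sq
  constructor
  · intro hf i
    exact locP_lci_of_isPullback hX hY (hYi i) (sq i) (hcov.1 i) hf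
  · intro hp
    exact locP_lci_of_fpqcCover hX hY hYi hXi sq hcov.1 (isStdRefinable_of_isFpqcCover hcov) hp

end Groth.Agent.Helper19.LciSp
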