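import Groth.Agent.Lib.Helper2.KosBridge5
import Groth.Agent.Lib.Helper16.AlgSp.StdDesc
import Groth.Agent.S8658
import Groth.Agent.S8661
import Groth.Agent.S8662
import Groth.Agent.S9729
import Groth.Agent.S9730
import Groth.Agent.S9699

/-!
# Scheme-level permanence of `AlgSp.lci` (Koszul at every point), packaged (helper19)
-/

set_option autoImplicit false
universe u
open CategoryTheory CategoryTheory.Limits AlgebraicGeometry MorphismProperty Opposite
open AlgSp

namespace Groth.Agent.Helper19.LciSp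

theorem lci_of_smooth {X Y : Scheme.{u}} (f : X ⟶ Y) [Smooth f] : AlgSp.lci f :=
  fun x => Groth.Agent.Helper2.KosBridge.isKoszulAt_of_smooth f x

theorem lci_comp {X Y Z : Scheme.{u}} {f : X ⟶ Y} {g : Y ⟶ Z} (hf : AlgSp.lci f)
    (hg : AlgSp.lci g) : AlgSp.lci (f ≫ g) :=
  Groth.Agent.S8661.result f g hf hg

theorem lci_of_comp_smooth {X Y Z : Scheme.{u}} (f : X ⟶ Y) (g : Y ⟶ Z) [Smooth g]
    (h : AlgSp.lci (f ≫ g)) : AlgSp.lci f :=
  fun x => Groth.Agent.S9729.result f g h x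

theorem lci_of_isPullback_flat {X Y X' Y' : Scheme.{u}} {f : X ⟶ Y} {g : Y' ⟶ Y} [Flat g]
    {f' : X' ⟶ Y'} {g' : X' ⟶ X} (hsq : IsPullback g' f' f g) (hf : AlgSp.lci f) :
    AlgSp.lci f' :=
  Groth.Agent.S8658.result f g f' g' hsq hf

theorem lci_of_etale_surjective_comp {A B C : Scheme.{u}} (e : A ⟶ B) (h : B ⟶ C) [Etale e]
    [Surjective e] (hP : AlgSp.lci (e ≫ h)) : AlgSp.lci h :=
  (Groth.Agent.S9730.result e (Groth.Agent.S9699.result e) h).1 hP

theorem lci_of_iso_comp {A B C : Scheme.{u}} (e : A ⟶ B) [IsIso e] {h : B ⟶ C}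
    (hP : AlgSp.lci h) : AlgSp.lci (e ≫ h) :=
  lci_comp (lci_of_smooth e) hP

section std

variable {Z : Scheme.{u}} {m : ℕ} (W : Fin m → Scheme.{u}) (c : ∀ j, W j ⟶ Z)

open Groth.Agent.Helper16.AS in
/-- lci descends along a standard fpqc covering -/
theorem lci_of_stdCover [IsAffine Z] [∀ j, IsAffine (W j)] (hflat : ∀ j, Flat (c j))
    (hsurj : ∀ z : Z, ∃ j, z ∈ Set.range (c j)) {V : Scheme.{u}} (v : V ⟶ Z)
    {V' : Fin m → Scheme.{u}} {a : ∀ j, V' j ⟶ V} {b : ∀ j, V' j ⟶ W j}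
    (sq : ∀ j, IsPullback (a j) (b j) v (c j)) (h : ∀ j, AlgSp.lci (b j)) : AlgSp.lci v := by
  let p : ∐ W ⟶ Z := Sigma.desc c
  have hp := fpqc_sigmaDesc W c hflat hsurj
  haveI : Surjective p := hp.1.1
  haveI : Flat p := hp.1.2
  haveI : QuasiCompact p := hp.2
  refine Groth.Agent.S8662.result v p (pullback.snd v p) (pullback.fst v p)
    (IsPullback.of_hasPullback v p) ?_
  intro x
  obtain ⟨j, w, hw⟩ := (sigmaOpenCover W).exists_eq ((pullback.snd v p) x)
  change (Sigma.ι W j) w = _ at hw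
  have e : Sigma.ι W j ≫ p = c j := Sigma.ι_desc _ _
  have big : IsPullback (pullback.fst (pullback.snd v p) (Sigma.ι W j) ≫ pullback.fst v p)
      (pullback.snd (pullback.snd v p) (Sigma.ι W j)) v (c j) := by
    rw [← e]
    exact (IsPullback.of_hasPullback (pullback.snd v p) (Sigma.ι W j)).paste_horiz
      (IsPullback.of_hasPullback v p)
  have hiso : pullback.snd (pullback.snd v p) (Sigma.ι W j) =
      (big.isoIsPullback _ _ (sq j)).hom ≫ b j := by
    rw [IsPullback.isoIsPullback_hom_snd]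
  have hl : AlgSp.lci (pullback.snd (pullback.snd v p) (Sigma.ι W j)) := by
    rw [hiso]
    exact lci_of_iso_comp _ (h j)
  exact Groth.Agent.Helper2.KosBridge.isKoszulAt_of_baseChange_of_isOpenMap (pullback.snd v p)
    (Sigma.ι W j) (Sigma.ι W j).isOpenEmbedding.isOpenMap _ _
    (IsPullback.of_hasPullback (pullback.snd v p) (Sigma.ι W j)) hl x w hw

end std

/-- lci descends along a flat surjective open base change (e.g. étale surjective) -/
theorem lci_of_isPullback_open {X Y X' Y' : Scheme.{u}} {f : X ⟶ Y} {g : Y' ⟶ Y} [Flat g]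
    [Surjective g] (hopen : IsOpenMap g) {f' : X' ⟶ Y'} {g' : X' ⟶ X}
    (hsq : IsPullback g' f' f g) (hf' : AlgSp.lci f') : AlgSp.lci f :=
  Groth.Agent.Helper2.KosBridge.isKoszulAt_of_baseChange_surjective f g hopen f' g' hsq hf'

end Groth.Agent.Helper19.LciSp
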