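import Groth.Agent.Lib.Helper19.LciSp.Sch
import Groth.Agent.Lib.Helper16.AlgSp.LocPDesc

/-!
# `AlgSp.IsLCIMor`: one chart criterion, flat base change, fpqc descent (helper19)
-/

set_option autoImplicit false
universe u
open CategoryTheory CategoryTheory.Limits AlgebraicGeometry MorphismProperty Opposite
open AlgSp Groth.Agent.Helper15 Groth.Agent.Helper16.AS

namespace Groth.Agent.Helper19.LciSp

variable {S : Scheme.{u}}

/-- one chart criterion for `LocP lci` -/
theorem locP_lci_of_charts {X Y XV : Sp S} (f : X ⟶ Y) {V₀ U₀ : Over S}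
    (q : (yon S).obj V₀ ⟶ Y) (hqe : RepWith @Etale q) (fstX : XV ⟶ X)
    (sndX : XV ⟶ (yon S).obj V₀) (sq : IsPullback fstX sndX f q) (r : (yon S).obj U₀ ⟶ XV)
    (hre : RepWith @Etale r) (hrs : RepWith @Surjective r) (hqs : RepWith @Surjective q)
    (h₀ : U₀ ⟶ V₀)
    (hh : r ≫ sndX = (yon S).map h₀) (hP₀ : AlgSp.lci h₀.left) : LocP AlgSp.lci f := by
  intro U V a b φ ha hb comm
  have hfste : RepWith @Etale fstX := (RepWith @Etale).of_isPullback sq.flip hqe
  have hfsts : RepWith @Surjective fstX := (RepWith @Surjective).of_isPullback sq.flip hqs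
  have hρe : RepWith @Etale (r ≫ fstX) := (RepWith @Etale).comp_mem _ _ hre hfste
  have hρs : RepWith @Surjective (r ≫ fstX) := (RepWith @Surjective).comp_mem _ _ hrs hfsts
  have hρrep := hρe.rep
  have sqW := hρrep.isPullback a
  haveI hse : Etale (hρrep.snd a).left := hρe.property_snd a
  haveI hss : Surjective (hρrep.snd a).left := hρs.property_snd a
  have hfe : RepWith @Etale (hρrep.fst a) := (RepWith @Etale).of_isPullback sqW.flip ha
  obtain ⟨e₀, he₀⟩ := (yon S).map_surjective (hρrep.fst a)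
  haveI he₀e : Etale e₀.left := (repWith_yon_map_iff _ e₀).1 (he₀ ▸ hfe)
  -- V' = V₀ ×_Y V
  have hqrep := hqe.rep
  have sqV := hqrep.isPullback b
  haveI hv₂e : Etale (hqrep.snd b).left := hqe.property_snd b
  have hv₁e : RepWith @Etale (hqrep.fst b) := (RepWith @Etale).of_isPullback sqV.flip hb
  obtain ⟨v₁, hv₁⟩ := (yon S).map_surjective (hqrep.fst b)
  haveI hv₁e' : Etale v₁.left := (repWith_yon_map_iff _ v₁).1 (hv₁ ▸ hv₁e)
  have hw : (yon S).map (e₀ ≫ h₀) ≫ q = (yon S).map (hρrep.snd a ≫ φ) ≫ b := by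
    calc (yon S).map (e₀ ≫ h₀) ≫ q = hρrep.fst a ≫ r ≫ sndX ≫ q := by
          rw [Functor.map_comp, he₀, ← hh]; simp only [Category.assoc]
      _ = hρrep.fst a ≫ (r ≫ fstX) ≫ f := by
          rw [← sq.w]; simp only [Category.assoc]
      _ = (yon S).map (hρrep.snd a) ≫ a ≫ f := by
          rw [← Category.assoc, sqW.w, Category.assoc]
      _ = (yon S).map (hρrep.snd a ≫ φ) ≫ b := by
          rw [comm, Functor.map_comp, Category.assoc]
  obtain ⟨ψ, hψ⟩ := (yon S).map_surjective (sqV.lift _ _ hw)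
  have hψ1 : ψ ≫ v₁ = e₀ ≫ h₀ := by
    apply (yon S).map_injective
    rw [Functor.map_comp, hψ, hv₁, sqV.lift_fst]
  have hψ2 : ψ ≫ hqrep.snd b = hρrep.snd a ≫ φ := by
    apply (yon S).map_injective
    rw [Functor.map_comp, hψ, sqV.lift_snd]
  have h1 : AlgSp.lci (ψ.left ≫ v₁.left) := by
    rw [← Over.comp_left, hψ1, Over.comp_left]
    exact lci_comp (lci_of_smooth e₀.left) hP₀
  have h2 : AlgSp.lci ψ.left := lci_of_comp_smooth ψ.left v₁.left h1
  have h3 : AlgSp.lci ((hρrep.snd a).left ≫ φ.left) := by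
    rw [← Over.comp_left, ← hψ2, Over.comp_left]
    exact lci_comp h2 (lci_of_smooth (hqrep.snd b).left)
  exact lci_of_etale_surjective_comp (hρrep.snd a).left φ.left h3

/-- existence of charts adapted to a morphism -/
theorem exists_charts_of_locP_lci {X Y : Sp S} (hX : IsAlgSpace X)
    (hY : IsAlgSpace Y) (f : X ⟶ Y) (hf : LocP AlgSp.lci f) :
    ∃ (V₀ U₀ : Over S) (q : (yon S).obj V₀ ⟶ Y) (r : (yon S).obj U₀ ⟶ pullback f q)
      (h₀ : U₀ ⟶ V₀), RepWith @Etale q ∧ RepWith @Surjective q ∧ RepWith @Etale r ∧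
        RepWith @Surjective r ∧ r ≫ pullback.snd f q = (yon S).map h₀ ∧ AlgSp.lci h₀.left :=
  exists_charts_of_locP hX hY f hf

/-- `LocP lci` is stable under flat base change. -/
theorem locP_lci_of_isPullback
    {X Y X' Y' : Sp S} (hX : IsAlgSpace X) (hY : IsAlgSpace Y) (hY' : IsAlgSpace Y')
    {f : X ⟶ Y} {g : Y' ⟶ Y} {f' : X' ⟶ Y'} {g' : X' ⟶ X} (sq' : IsPullback g' f' f g)
    (hg : LocP @Flat g) (hf : LocP AlgSp.lci f) : LocP AlgSp.lci f' := by
  obtain ⟨V₀, U₀, q, r, h₀, hqe, hqs, hre, hrs, hh, hP₀⟩ := exists_charts_of_locP_lci hX hY f hf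
  have hY'V : IsAlgSpace (pullback g q) :=
    isAlgSpace_of_isPullback hY.diag hY' (IsAlgSpace.yon_obj V₀) (IsPullback.of_hasPullback g q)
  obtain ⟨V₀', q'', hq''e, hq''s⟩ := hY'V.atlas
  have hpr₁e : RepWith @Etale (pullback.fst g q) :=
    (RepWith @Etale).of_isPullback (IsPullback.of_hasPullback g q).flip hqe
  have hpr₁s : RepWith @Surjective (pullback.fst g q) :=
    (RepWith @Surjective).of_isPullback (IsPullback.of_hasPullback g q).flip hqs
  have hq'e : RepWith @Etale (q'' ≫ pullback.fst g q) := (RepWith @Etale).comp_mem _ _ hq''e hpr₁e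
  have hq's : RepWith @Surjective (q'' ≫ pullback.fst g q) :=
    (RepWith @Surjective).comp_mem _ _ hq''s hpr₁s
  obtain ⟨ν, hν⟩ := (yon S).map_surjective (q'' ≫ pullback.snd g q)
  set q' := q'' ≫ pullback.fst g q with hq'
  have eq1 : q' ≫ g = (yon S).map ν ≫ q := by
    rw [hq', Category.assoc, pullback.condition, ← Category.assoc, hν]
  haveI hνflat : Flat ν.left := hg q' q ν hq'e hqe eq1
  have big : IsPullback (pullback.fst f' q' ≫ g') (pullback.snd f' q') f ((yon S).map ν ≫ q) := by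
    rw [← eq1]
    exact (IsPullback.of_hasPullback f' q').paste_horiz sq'
  have sqXV := IsPullback.of_hasPullback f q
  have hbigw : (pullback.fst f' q' ≫ g') ≫ f = (pullback.snd f' q' ≫ (yon S).map ν) ≫ q := by
    rw [Category.assoc _ _ q]; exact big.w
  have right : IsPullback (sqXV.lift _ _ hbigw) (pullback.snd f' q') (pullback.snd f q)
      ((yon S).map ν) := by
    refine IsPullback.of_right ?_ (sqXV.lift_snd _ _ hbigw) sqXV
    rw [sqXV.lift_fst]
    exact big
  set ρ := sqXV.lift _ _ hbigw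
  have sqU : IsPullback ((yon S).map (pullback.fst h₀ ν)) ((yon S).map (pullback.snd h₀ ν))
      (r ≫ pullback.snd f q) ((yon S).map ν) := by
    rw [hh]
    exact (IsPullback.of_hasPullback h₀ ν).map (yon S)
  have hw : ((yon S).map (pullback.fst h₀ ν) ≫ r) ≫ pullback.snd f q =
      (yon S).map (pullback.snd h₀ ν) ≫ (yon S).map ν := by
    rw [Category.assoc]; exact sqU.w
  have left : IsPullback (right.lift _ _ hw) ((yon S).map (pullback.fst h₀ ν)) ρ r := by
    refine IsPullback.of_right ?_ (right.lift_fst _ _ hw) right.flip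
    rw [right.lift_snd]
    exact sqU.flip
  have hr'e : RepWith @Etale (right.lift _ _ hw) :=
    (RepWith @Etale).of_isPullback left.flip hre
  have hr's : RepWith @Surjective (right.lift _ _ hw) :=
    (RepWith @Surjective).of_isPullback left.flip hrs
  have sqO : IsPullback (pullback.fst h₀ ν).left (pullback.snd h₀ ν).left h₀.left ν.left :=
    (IsPullback.of_hasPullback h₀ ν).map (Over.forget S)
  have hPπ : AlgSp.lci (pullback.snd h₀ ν).left := lci_of_isPullback_flat sqO hP₀
  exact locP_lci_of_charts f' q' hq'e (pullback.fst f' q') (pullback.snd f' q')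
    (IsPullback.of_hasPullback f' q') (right.lift _ _ hw) hr'e hr's hq's (pullback.snd h₀ ν)
    (right.lift_snd _ _ hw) hPπ

end Groth.Agent.Helper19.LciSp
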